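import Mathlib
import Groth.Prelude
import Groth.Agent.S1628
import Groth.Agent.Lib.Helper7.EtH0.Stein

/-!
# The derivation of a proper smooth morphism kills functions pulled back from the base (helper5)

For `f : X ⟶ S` proper and smooth, `d : O_X → Ω_{X/S}` vanishes on `Γ(f⁻¹V, O_X)`.
Uses helper7's finite étale Stein factorization library.
-/

set_option autoImplicit false
set_option backward.isDefEq.respectTransparency.types false
set_option synthInstance.maxHeartbeats 400000
set_option maxHeartbeats 1600000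
set_option linter.style.haveILetI false
set_option linter.unusedSectionVars false
set_option linter.unusedVariables false

universe u

open CategoryTheory CategoryTheory.Limits AlgebraicGeometry TopologicalSpace Opposite

namespace Groth.Agent.Lib.Helper5.DOmRel

open Groth.Agent.Helper7.EtH0

/-- A derivation-like additive map out of a formally unramified algebra vanishes. -/
theorem D_eq_zero_of_formallyUnramified {A B M : Type*} [CommRing A] [CommRing B] [Algebra A B]
    [Algebra.FormallyUnramified A B] [AddCommGroup M] [Module B M] (D : B →+ M)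
    (hmul : ∀ a b : B, D (a * b) = a • D b + b • D a)
    (hconst : ∀ c : A, D (algebraMap A B c) = 0) (s : B) : D s = 0 := by
  letI : Module A M := Module.compHom M (algebraMap A B)
  haveI : IsScalarTower A B M := IsScalarTower.of_algebraMap_smul (fun r m => rfl)
  let L : B →ₗ[A] M :=
    { toFun := D
      map_add' := D.map_add
      map_smul' := fun c a => by
        simp only [RingHom.id_apply]
        rw [Algebra.smul_def, hmul, hconst, smul_zero, add_zero]
        rfl }
  let D' : Derivation A B M := Derivation.mk' L hmul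
  have h : D'.liftKaehlerDifferential (KaehlerDifferential.D A B s) = D' s :=
    Derivation.liftKaehlerDifferential_comp_D D' s
  rw [Subsingleton.elim (KaehlerDifferential.D A B s) 0, map_zero] at h
  exact h.symm

variable {X S : Scheme.{u}} (f : X ⟶ S) [IsProper f] [Smooth f]

theorem etale_fibres (t : S) : (f.fiberToSpecResidueField t).appTop.hom.Etale := by
  haveI : Smooth (f.fiberToSpecResidueField t) :=
    inferInstanceAs (Smooth (pullback.snd f (S.fromSpecResidueField t)))
  letI : (f.fiber t).Over (Spec (CommRingCat.of (S.residueField t))) :=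
    ⟨f.fiberToSpecResidueField t⟩
  haveI : Smooth ((f.fiber t) ↘ Spec (CommRingCat.of (S.residueField t))) :=
    ‹Smooth (f.fiberToSpecResidueField t)›
  haveI : GeometricallyReduced (f.fiberToSpecResidueField t) :=
    (Groth.Agent.S1628.result (S.residueField t) (f.fiber t)).1
  exact etale_fibre_of_geomReduced' f t

theorem main (V : S.Opens) (s : Γ(X, f ⁻¹ᵁ V)) :
    (OmegaSh.dOmega f).app (f ⁻¹ᵁ V) s = 0 := by
  have het : ∀ t : S, (f.fiberToSpecResidueField t).appTop.hom.Etale := etale_fibres f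
  apply TopCat.Sheaf.eq_of_locally_eq'
    (⟨(Omega.sheaf f).presheaf, (Omega.sheaf f).isSheaf⟩ : TopCat.Sheaf Ab X)
    (fun p : {W : S.Opens // W ≤ V ∧ (f.app W).hom.Etale} => f ⁻¹ᵁ p.1) (f ⁻¹ᵁ V)
    (fun p => homOfLE (fun x hx => p.2.1 hx))
  · intro x hx
    obtain ⟨U, htU, hflf, hbc⟩ := exists_nhd_of_etale f (f x) (het (f x))
    obtain ⟨W, hWaff, htW, hWUV⟩ := Opens.isBasis_iff_nbhd.mp S.isBasis_affineOpens
      (show f x ∈ U ⊓ V from ⟨htU, hx⟩)
    have hEt := (etale_app_of_affine_le f het hflf hbc hWaff (hWUV.trans inf_le_left)).2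
    exact Opens.mem_iSup.2 ⟨⟨W, hWUV.trans inf_le_right, hEt⟩, htW⟩
  · rintro ⟨W, hWV, hEt⟩
    have h1 := (OmegaSh.dOmega f).d_map (X := op (f ⁻¹ᵁ V)) (Y := op (f ⁻¹ᵁ W))
      (homOfLE (fun x hx => hWV hx) : f ⁻¹ᵁ W ⟶ f ⁻¹ᵁ V).op s
    letI alg : Algebra Γ(S, W) Γ(X, f ⁻¹ᵁ W) := (f.app W).hom.toAlgebra
    haveI hE : Algebra.Etale Γ(S, W) Γ(X, f ⁻¹ᵁ W) := hEt
    have h2 := D_eq_zero_of_formallyUnramified (A := Γ(S, W)) (B := Γ(X, f ⁻¹ᵁ W))
      ((OmegaSh.dOmega f).app (f ⁻¹ᵁ W))
      (fun a b => (OmegaSh.dOmega f).d_mul (X := op (f ⁻¹ᵁ W)) a b)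
      (fun c => (OmegaSh.dOmega f).d_app (X := op W) c)
      (X.presheaf.map (homOfLE (fun x hx => hWV hx) : f ⁻¹ᵁ W ⟶ f ⁻¹ᵁ V).op s)
    rw [map_zero]
    refine Eq.trans ?_ h2
    exact h1.symm

end Groth.Agent.Lib.Helper5.DOmRel
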